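import Cfsg.Agent.Chevalley.Subfield
import Cfsg.Agent.H51.CharInf

/-!
# Centralisers of regular elements of the diagonal subgroup

An element of a Chevalley group commuting with a diagonal element whose values at the roots are
pairwise different and different from `1` lies in the diagonal subgroup.
-/

set_option autoImplicit false

namespace Cfsg.Agent.H14.Regular

open Cfsg.Lie Cfsg.Agent.H37 Cfsg.Agent.H37.RootSys

variable {D : ChevalleyDatum} {F : Type*} [Field F] (Q : Chev.Data D F)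

theorem sum_aMat {r : ℕ} (hr : r < D.nroots) (t : F) (a b : D.Idx) :
    ((Q.K.xU F r t : GL D.Idx F) : Matrix D.Idx D.Idx F) a b =
      ∑ k ∈ Finset.range 4, (Chevalley.aMat D r k a b : F) * t ^ k := by
  rw [Q.K.coe_xU, Q.K.x_eq hr]
  rfl

/-- Conjugation of a root element by the diagonal element of a character. -/
theorem conj_xU (hW : H51.WeightOK D) {χ : ℕ → Fˣ} (hχ : D.IsRootCharacter χ) {h : GL D.Idx F}
    (hhχ : (h : Matrix D.Idx D.Idx F) = D.charDiag F χ) {r : ℕ} (hr : r < D.nroots) (t : F) :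
    h * Q.K.xU F r t * h⁻¹ = Q.K.xU F r ((χ r : F) * t) := by
  rw [mul_inv_eq_iff_eq_mul]
  refine Units.ext ?_
  rw [Units.val_mul, Units.val_mul, Q.K.coe_xU, Q.K.coe_xU, hhχ, ← H51.charDiag_mul_x_mul hW hχ hr t,
    Matrix.mul_assoc _ (D.charDiag F fun s => (χ s)⁻¹)]
  rw [ChevalleyDatum.charDiag, ChevalleyDatum.charDiag, Matrix.diagonal_mul_diagonal]
  rw [show (fun i => (Sum.elim (fun _ => (1 : F)) (fun r : Fin D.nroots => (((χ r.val)⁻¹ : Fˣ) : F)) i *
      Sum.elim (fun _ => (1 : F)) (fun r : Fin D.nroots => (χ r.val : F)) i)) = fun _ => 1 from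
    funext fun i => by rcases i with i | i <;> simp, Matrix.diagonal_one, Matrix.mul_one]

theorem conj_wU (hW : H51.WeightOK D) {χ : ℕ → Fˣ} (hχ : D.IsRootCharacter χ) {h : GL D.Idx F}
    (hhχ : (h : Matrix D.Idx D.Idx F) = D.charDiag F χ) :
    ∀ (L : List ℕ), (∀ r ∈ L, r < D.nroots) → ∀ t : ℕ → F,
      h * Q.K.wU F (L.map fun r => (r, t r)) * h⁻¹ = Q.K.wU F (L.map fun r => (r, (χ r : F) * t r))
  | [], _, t => by simp [Q.K.wU_nil]
  | r :: L, hL, t => by
    rw [List.map_cons, List.map_cons, Q.K.wU_cons, Q.K.wU_cons,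
      ← conj_wU hW hχ hhχ L (fun s hs => hL s (List.mem_cons_of_mem r hs)) t,
      ← conj_xU Q hW hχ hhχ (hL r List.mem_cons_self) (t r)]
    group

include Q in
/-- An element of the positive unipotent subgroup centralised by a regular element is trivial. -/
theorem pos_eq_one (hW : H51.WeightOK D) {χ : ℕ → Fˣ} (hχ : D.IsRootCharacter χ) {h : GL D.Idx F}
    (hhχ : (h : Matrix D.Idx D.Idx F) = D.charDiag F χ) (h1 : ∀ r < D.nroots, χ r ≠ 1)
    {u : GL D.Idx F} (hu : u ∈ D.posUnipotent F) (hc : h * u * h⁻¹ = u) : u = 1 := by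
  obtain ⟨t, ⟨ht1, ht2⟩, huniq⟩ := (Chevalley.Uni.exists_unique_word Q).1 u hu
  have hu' : u = Q.K.wU F (D.posRoots.map fun r => (r, t r)) :=
    Units.ext (ht2.trans (Q.K.coe_wU F _).symm)
  have hlt : ∀ r ∈ D.posRoots, r < D.nroots := fun r hr => by
    have := hr
    simp only [ChevalleyDatum.posRoots, List.mem_filter, List.mem_range] at this
    exact this.1
  have e : (fun r => (χ r : F) * t r) = t := by
    refine huniq _ ⟨fun r hr => by simp [ht1 r hr], ?_⟩
    rw [← Q.K.coe_wU, ← conj_wU Q hW hχ hhχ _ hlt t, ← hu', hc]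
  have ht : ∀ r, t r = 0 := fun r => by
    by_cases hp : D.IsPosRoot r
    · have h2 := congrFun e r
      replace h2 : (χ r : F) * t r = t r := h2
      by_contra hne
      exact h1 r ((Q.ord.isPosRoot_iff r).1 hp).1 (Units.ext (by simpa [hne] using h2))
    · exact ht1 r hp
  rw [hu', ← Subgroup.mem_bot]
  refine Q.K.wU_mem F fun p hp => ?_
  obtain ⟨r, -, rfl⟩ := List.mem_map.1 hp
  rw [Subgroup.mem_bot, ht r, Q.K.xU_zero]

/-- The centraliser of a regular element of the diagonal subgroup. -/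
theorem mem_diagonal_of_commute (hW : H51.WeightOK D)
    (hoff : ∀ s r : Fin D.nroots, s ≠ r → ∀ k : Fin 4,
      Chevalley.aMat D s k (Sum.inr r) (Sum.inr ⟨D.neg r, Q.K.neg_lt r.isLt⟩) = 0)
    (hself : ∀ r : Fin D.nroots,
      ∑ k ∈ Finset.range 4, Chevalley.aMat D r k (Sum.inr r) (Sum.inr ⟨D.neg r, Q.K.neg_lt r.isLt⟩) = -1)
    {χ : ℕ → Fˣ} (hχ : D.IsRootCharacter χ) {h : GL D.Idx F} (hh : h ∈ D.diagonalSubgroup F)
    (hhχ : (h : Matrix D.Idx D.Idx F) = D.charDiag F χ)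
    (hinj : ∀ r s, r < D.nroots → s < D.nroots → χ r = χ s → r = s) (h1 : ∀ r < D.nroots, χ r ≠ 1)
    {z : GL D.Idx F} (hz : z ∈ D.group F) (hc : Commute h z) : z ∈ D.diagonalSubgroup F := by
  obtain ⟨u, hu, d, hd, w, v, hv, e⟩ := Q.mem_group_exists hz
  have hupos : h * u * h⁻¹ ∈ D.posUnipotent F := by
    have : D.posUnipotent F ≤ (D.posUnipotent F).comap (MulAut.conj h).toMonoidHom := by
      refine (Subgroup.closure_le _).2 ?_
      rintro x ⟨r, t, hr, hx⟩
      obtain rfl : x = Q.K.xU F r t := Units.ext (hx.trans (Q.K.coe_xU F r t).symm)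
      show h * Q.K.xU F r t * h⁻¹ ∈ D.posUnipotent F
      rw [conj_xU Q hW hχ hhχ ((Q.ord.isPosRoot_iff r).1 hr).1]
      exact Subgroup.subset_closure ⟨r, _, hr, rfl⟩
    exact this hu
  have hvw : h * v * h⁻¹ ∈ Q.UwGL w := by
    obtain ⟨a, ha, rfl⟩ := hv
    refine coe_mem_of_XS Q.K (Q := (Q.UwGL w).comap (MulAut.conj h).toMonoidHom) (fun r hr t => ?_) ha
    rw [Subgroup.mem_comap]
    show h * Q.K.xU F r t * h⁻¹ ∈ Q.UwGL w
    rw [conj_xU Q hW hχ hhχ (Sys.mem_flip.1 hr).1]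
    exact ⟨xG Q.K F r _, x_mem_XS hr _, rfl⟩
  have hk : Q.repGL w * h⁻¹ * (Q.repGL w)⁻¹ ∈ D.diagonalSubgroup F := Q.repGL_conj_H w (inv_mem hh)
  have e2 : u * d * Q.repGL w * v = (h * u * h⁻¹) * (h * (d * (Q.repGL w * h⁻¹ * (Q.repGL w)⁻¹))) *
      Q.repGL w * (h * v * h⁻¹) := by
    have hzc : z = h * z * h⁻¹ := by rw [hc.eq, mul_inv_cancel_right]
    rw [← e]
    conv_lhs => rw [hzc, e]
    group
  obtain ⟨-, hu1, hd1, hv1⟩ := Q.unique_GL hu hupos hd (mul_mem hh (mul_mem hd hk)) hv hvw e2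
  have hu0 : u = 1 := pos_eq_one Q hW hχ hhχ h1 hu hu1.symm
  have hv0 : v = 1 := pos_eq_one Q hW hχ hhχ h1 (Chevalley.Subfield.UwGL_le_pos Q hv) hv1.symm
  set ρ := Q.repGL w with hρ
  have hcomm : Commute h ρ := by
    rw [← mul_assoc, Q.diag_comm hh hd, mul_assoc] at hd1
    have h2 := mul_eq_left.1 hd1.symm
    rw [← mul_assoc, mul_inv_eq_one] at h2
    rw [← mul_assoc, mul_inv_eq_iff_eq_mul] at h2
    exact h2
  set α : D.Idx → F := Sum.elim (fun _ => (1 : F)) (fun r => (χ r.val : F))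
  have hzero : ∀ a b : D.Idx, α a ≠ α b → (ρ : Matrix D.Idx D.Idx F) a b = 0 := by
    intro a b hab
    have := congrArg (fun g : GL D.Idx F => (g : Matrix D.Idx D.Idx F) a b) hcomm.eq
    simp only [Units.val_mul, hhχ, ChevalleyDatum.charDiag, Matrix.diagonal_mul, Matrix.mul_diagonal] at this
    by_contra hne
    exact hab (mul_right_cancel₀ hne (this.trans (mul_comm _ _)))
  have hoffdiag : ∀ (r : Fin D.nroots) (b : D.Idx), b ≠ Sum.inr r →
      (ρ : Matrix D.Idx D.Idx F) (Sum.inr r) b = 0 ∧ (ρ : Matrix D.Idx D.Idx F) b (Sum.inr r) = 0 := by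
    intro r b hb
    have hne : α (Sum.inr r) ≠ α b := by
      rcases b with i | s
      · exact fun e => h1 r r.isLt (Units.ext (by simpa [α] using e))
      · refine fun e => hb (congrArg Sum.inr (Fin.ext ?_))
        exact (hinj r s r.isLt s.isLt (Units.ext (by simpa [α] using e))).symm
    exact ⟨hzero _ _ hne, hzero _ _ hne.symm⟩
  have hdiag : ∀ r : Fin D.nroots, (ρ : Matrix D.Idx D.Idx F) (Sum.inr r) (Sum.inr r) ≠ 0 := by
    intro r hr0
    have := congrArg (fun g : GL D.Idx F => (g : Matrix D.Idx D.Idx F) (Sum.inr r) (Sum.inr r)) (mul_inv_cancel ρ)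
    simp only [Units.val_mul, Matrix.mul_apply, Units.val_one, Matrix.one_apply_eq] at this
    rw [Finset.sum_eq_single (Sum.inr r) (fun b _ hb => by rw [(hoffdiag r b hb).1, zero_mul]) (by simp),
      hr0, zero_mul] at this
    exact zero_ne_one this
  have hfix : ∀ r : Fin D.nroots, Q.X.good.hom w r = r := by
    intro r
    obtain ⟨t', et⟩ := Q.x_conj (h := 1) (one_mem _) w r.isLt 1
    rw [one_mul, mul_inv_eq_iff_eq_mul] at et
    by_contra hne
    set b : D.Idx := Sum.inr ⟨D.neg r, Q.K.neg_lt r.isLt⟩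
    have := congrArg (fun g : GL D.Idx F => (g : Matrix D.Idx D.Idx F) (Sum.inr r) b) et
    simp only [Units.val_mul, Matrix.mul_apply, ← hρ] at this
    rw [Finset.sum_eq_single (Sum.inr r) (fun c _ hc => by rw [(hoffdiag r c hc).1, zero_mul]) (by simp),
      Finset.sum_eq_single b (fun c _ hc => by rw [(hoffdiag _ c hc).2, mul_zero]) (by simp),
      sum_aMat Q r.isLt, sum_aMat Q (Fin.isLt _)] at this
    have h2 : ∑ k ∈ Finset.range 4, (Chevalley.aMat D (Q.X.good.hom w r).val k (Sum.inr r) b : F) * t' ^ k = 0 := by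
      refine Finset.sum_eq_zero fun k hk => ?_
      rw [hoff _ r hne ⟨k, Finset.mem_range.1 hk⟩]
      simp
    rw [h2, zero_mul] at this
    simp only [one_pow, mul_one] at this
    rw [← Int.cast_sum, hself r] at this
    simp [hdiag r] at this
  have hw : w = 1 := Q.X.good.hom_injective (Equiv.ext fun r => by rw [map_one]; exact hfix r)
  rw [e, hu0, hv0, one_mul, mul_one, hρ]
  subst hw
  rw [Chev.Data.repGL, Q.sys.rep_one]
  simpa using hd

end Cfsg.Agent.H14.Regular
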