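import Cfsg.Agent.H14.G2Singer.Rho
import Cfsg.Agent.H14.G2Singer.Regular

/-!
# The diagonal elements of `SL₃` in `G₂`
-/

set_option autoImplicit false

namespace Cfsg.Agent.H14.G2Singer

open Cfsg.Lie
open scoped Matrix

variable {F : Type*} [Field F]

/-- Coefficients of the roots on the short fundamental root. -/
def ca : Fin 12 → ℤ := ![-3, -3, -2, -1, -1, 0, 0, 1, 1, 2, 3, 3]

/-- Coefficients of the roots on the long fundamental root. -/
def cb : Fin 12 → ℤ := ![-2, -1, -1, -1, 0, -1, 1, 0, 1, 1, 1, 2]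

/-- The character with given values at the fundamental roots. -/
def chi (A B : Fˣ) (r : ℕ) : Fˣ := if h : r < 12 then A ^ ca ⟨r, h⟩ * B ^ cb ⟨r, h⟩ else 1

theorem chi_fin (A B : Fˣ) (r : Fin 12) : chi A B r = A ^ ca r * B ^ cb r := dif_pos r.isLt

theorem neg_table : ∀ r : Fin 12, chevG2.neg r < 12 ∧
    ∀ s : Fin 12, (s : ℕ) = chevG2.neg r → ca s = -ca r ∧ cb s = -cb r := by decide +kernel

theorem chain_table : ∀ p : Fin 12 × Fin 12, ∀ k : Fin 12,
    chevG2.chainRoot p.1 p.2 1 = some (k : ℕ) → ca k = ca p.1 + ca p.2 ∧ cb k = cb p.1 + cb p.2 := by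
  decide +kernel

theorem chain_lt : ∀ p : Fin 12 × Fin 12,
    ((chevG2.chainRoot p.1 p.2 1).getD 0) < 12 := by decide +kernel

theorem isRootCharacter_chi (A B : Fˣ) : chevG2.IsRootCharacter (chi A B) := by
  refine ⟨fun r hr => ?_, fun r s k hr hs hk => ?_⟩
  · obtain ⟨h1, h2⟩ := neg_table ⟨r, hr⟩
    obtain ⟨e1, e2⟩ := h2 ⟨chevG2.neg r, h1⟩ rfl
    rw [chi_fin A B ⟨r, hr⟩, chi_fin A B ⟨chevG2.neg r, h1⟩, e1, e2, mul_inv, zpow_neg, zpow_neg]
  · have hk12 : k < 12 := by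
      have := chain_lt (⟨r, hr⟩, ⟨s, hs⟩)
      rwa [hk, Option.getD_some] at this
    obtain ⟨e1, e2⟩ := chain_table (⟨r, hr⟩, ⟨s, hs⟩) ⟨k, hk12⟩ hk
    rw [chi_fin A B ⟨r, hr⟩, chi_fin A B ⟨s, hs⟩, chi_fin A B ⟨k, hk12⟩, e1, e2, zpow_add, zpow_add,
      mul_mul_mul_comm]

/-- The diagonal element of `SL₃` with given values at the fundamental roots. -/
def dSL (A B : Fˣ) : Matrix.SpecialLinearGroup (Fin 3) F :=
  ⟨Matrix.diagonal ![((A * B : Fˣ) : F), (A : F), ((A * A * B)⁻¹ : Fˣ)], by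
    simp [Matrix.det_diagonal, Fin.prod_univ_three]
    field_simp⟩

theorem rho_dSL (A B : Fˣ) :
    (rho (dSL A B) : Matrix chevG2.Idx chevG2.Idx F) = chevG2.charDiag F (chi A B) := by
  rw [coe_rho]
  refine Matrix.ext fun (a : Fin 2 ⊕ Fin 12) (b : Fin 2 ⊕ Fin 12) => ?_
  rw [rho_apply]
  have hinv : ((dSL A B : Matrix.SpecialLinearGroup (Fin 3) F) : Matrix (Fin 3) (Fin 3) F).adjugate =
      Matrix.diagonal ![(((A * B)⁻¹ : Fˣ) : F), ((A⁻¹ : Fˣ) : F), ((A * A * B : Fˣ) : F)] := by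
    rw [show ((dSL A B : Matrix.SpecialLinearGroup (Fin 3) F) : Matrix (Fin 3) (Fin 3) F) =
      Matrix.diagonal ![((A * B : Fˣ) : F), (A : F), ((A * A * B)⁻¹ : Fˣ)] from rfl, Matrix.adjugate_fin_three]
    ext i j
    fin_cases i <;> fin_cases j <;> simp <;> field_simp
  have key : ∀ x : Adj F, coord (act (dSL A B) (emb x)) =
      fun c => Sum.elim (fun _ => (1 : F)) (fun r : Fin 12 => (chi A B r : F)) c * x c := by
    intro x
    rw [act_apply, hinv]
    simp only [dSL]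
    funext c
    rcases c with i | i <;> fin_cases i <;>
      simp [coord, coordR, emb, embR, chi, ca, cb, Matrix.mul_diagonal, Matrix.diagonal_mul,
        Matrix.mulVec_diagonal, Matrix.vecMul_diagonal, zpow_neg, zpow_ofNat] <;> field_simp <;>
        first | exact Or.inl trivial | ring
  rw [key]
  show _ = Matrix.diagonal (Sum.elim (fun _ => (1 : F)) (fun r : Fin 12 => (chi A B r : F))) a b
  rcases eq_or_ne a b with rfl | h
  · simp
  · simp [Matrix.diagonal_apply_ne _ h, Pi.single_eq_of_ne h]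

theorem torus_table : ∀ s : Fin 12,
    Chevalley.pairingSum chevG2 (chevG2.simple 0) s = 2 * ca s - 3 * cb s ∧
      Chevalley.pairingSum chevG2 (chevG2.simple 1) s = -ca s + 2 * cb s := by decide +kernel

/-- The diagonal subgroup comes from the diagonal of `SL₃`. -/
theorem exists_dSL_eq {g : GL chevG2.Idx F} (hg : g ∈ chevG2.diagonalSubgroup F) :
    ∃ A B : Fˣ, g = rho (dSL A B) := by
  obtain ⟨C⟩ := Chevalley.exists_cert (D := chevG2) (by simp)
  rw [C.diagonalSubgroup_eq] at hg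
  obtain ⟨c, rfl⟩ := hg
  set c0 : Fˣ := c (0 : Fin 2) with h0
  set c1 : Fˣ := c (1 : Fin 2) with h1
  refine ⟨c0 ^ (2 : ℤ) * c1 ^ (-1 : ℤ), c0 ^ (-3 : ℤ) * c1 ^ (2 : ℤ), Units.ext ?_⟩
  rw [rho_dSL]
  show Matrix.diagonal (fun x => ((∏ m : Fin 2, c m ^ Chevalley.pe (D := chevG2) (chevG2.simple m) x : Fˣ) : F)) = _
  rw [ChevalleyDatum.charDiag]
  congr 1
  funext x
  rcases x with i | s
  · simp [Chevalley.pe]
  · show ((∏ m : Fin 2, c m ^ Chevalley.pairingSum chevG2 (chevG2.simple m) s : Fˣ) : F) = _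
    obtain ⟨e1, e2⟩ := torus_table s
    rw [Fin.prod_univ_two]
    show ((c0 ^ Chevalley.pairingSum chevG2 (chevG2.simple 0) s *
      c1 ^ Chevalley.pairingSum chevG2 (chevG2.simple 1) s : Fˣ) : F) = _
    rw [e1, e2, Sum.elim_inr, chi_fin _ _ (s : Fin 12)]
    congr 1
    rw [mul_zpow, mul_zpow, ← zpow_mul, ← zpow_mul, ← zpow_mul, ← zpow_mul, mul_mul_mul_comm, ← zpow_add,
      ← zpow_add]
    congr 2 <;> ring

theorem off_table : ∀ p : Fin 12 × Fin 12, p.1 ≠ p.2 → ∀ k : Fin 4, ∀ h : chevG2.neg p.2 < 12,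
    aM p.1 k (Sum.inr p.2) (Sum.inr ⟨chevG2.neg p.2, h⟩) = 0 := by
  decide +kernel

theorem self_table : ∀ r : Fin 12, ∀ h : chevG2.neg r < 12,
    ∑ k ∈ Finset.range 4, aM r k (Sum.inr r) (Sum.inr ⟨chevG2.neg r, h⟩) = -1 := by
  decide +kernel

/-- An element of `G₂` commuting with a regular diagonal element is in the image of the diagonal. -/
theorem exists_dSL_of_commute {A B : Fˣ}
    (hinj : ∀ r s : Fin 12, chi A B r = chi A B s → r = s) (h1 : ∀ r : Fin 12, chi A B r ≠ 1)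
    {z : GL chevG2.Idx F} (hz : z ∈ chevG2.group F) (hc : Commute (rho (dSL A B)) z) :
    ∃ A' B' : Fˣ, z = rho (dSL A' B') := by
  obtain ⟨Q, -⟩ := H37.Chev.exists_data (D := chevG2) (by simp) F
  refine exists_dSL_eq (Regular.mem_diagonal_of_commute Q H51.weightOK_g2
    (fun s r hsr k => off_table (s, r) hsr k (Q.K.neg_lt r.isLt))
    (fun r => self_table r (Q.K.neg_lt r.isLt))
    (isRootCharacter_chi A B)
    (H51.charDiag_mem_diagonal Q H51.weightOK_g2 (isRootCharacter_chi A B)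
      (range_rho_le ⟨_, rfl⟩) (rho_dSL A B))
    (rho_dSL A B)
    (fun r s hr hs e => by simpa using congrArg Fin.val (hinj ⟨r, hr⟩ ⟨s, hs⟩ e))
    (fun r hr => h1 ⟨r, hr⟩) hz hc)

end Cfsg.Agent.H14.G2Singer
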