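import Mathlib
import Cfsg.Prelude.Def_ChevG2
import Cfsg.Prelude.Def_ChevAutomorphisms
import Cfsg.Agent.Linear.Generation
import Cfsg.Agent.Chevalley.All

/-!
# `SL₃` on the long roots of `G₂`

The adjoint module of `G₂` is `sl₃ ⊕ V ⊕ V*` for the subgroup of the long roots.
-/

set_option autoImplicit false
set_option maxRecDepth 8000

namespace Cfsg.Agent.H14.G2Singer

open Cfsg.Lie
open scoped Matrix

variable (F : Type*) [Field F]

/-- The coordinate space of the adjoint module. -/
abbrev Adj : Type _ := (Fin 2 ⊕ Fin 12) → F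

/-- The triples `(X, v, w)`. -/
abbrev Trip : Type _ := Matrix (Fin 3) (Fin 3) F × (Fin 3 → F) × (Fin 3 → F)

variable {F}

section Ring

variable {R : Type*} [CommRing R]

/-- From coordinates to triples, over any ring. -/
def embR (x : Fin 2 ⊕ Fin 12 → R) : Matrix (Fin 3) (Fin 3) R × (Fin 3 → R) × (Fin 3 → R) :=
  (!![x (.inl 1) - x (.inl 0), x (.inr 6), x (.inr 11);
      x (.inr 5), 2 * x (.inl 0) - x (.inl 1), x (.inr 10);
      x (.inr 0), x (.inr 1), -x (.inl 0)],
   ![x (.inr 8), x (.inr 7), x (.inr 2)], ![x (.inr 3), x (.inr 4), x (.inr 9)])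

/-- From triples to coordinates, over any ring. -/
def coordR (y : Matrix (Fin 3) (Fin 3) R × (Fin 3 → R) × (Fin 3 → R)) : Fin 2 ⊕ Fin 12 → R :=
  Sum.elim ![-y.1 2 2, y.1 0 0 - y.1 2 2]
    ![y.1 2 0, y.1 2 1, y.2.1 2, y.2.2 0, y.2.2 1, y.1 1 0, y.1 0 1, y.2.1 1, y.2.1 0, y.2.2 2,
      y.1 1 2, y.1 0 2]

/-- The coefficient of `c ^ k` in the action of the transvection at `(i, j)`. -/
def coefT (k : ℕ) (i j : Fin 3) (y : Matrix (Fin 3) (Fin 3) R × (Fin 3 → R) × (Fin 3 → R)) :
    Matrix (Fin 3) (Fin 3) R × (Fin 3 → R) × (Fin 3 → R) :=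
  match k with
  | 0 => y
  | 1 => (Matrix.single i j 1 * y.1 - y.1 * Matrix.single i j 1, Matrix.single i j 1 *ᵥ y.2.1,
      -((Matrix.single i j 1)ᵀ *ᵥ y.2.2))
  | 2 => (-(Matrix.single i j 1 * y.1 * Matrix.single i j 1), 0, 0)
  | _ => (0, 0, 0)

variable {S : Type*} [CommRing S] (f : R →+* S)

/-- A ring homomorphism on triples. -/
def mapT (y : Matrix (Fin 3) (Fin 3) R × (Fin 3 → R) × (Fin 3 → R)) :
    Matrix (Fin 3) (Fin 3) S × (Fin 3 → S) × (Fin 3 → S) :=
  (y.1.map f, f ∘ y.2.1, f ∘ y.2.2)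

theorem embR_map (x : Fin 2 ⊕ Fin 12 → R) : embR (f ∘ x) = mapT f (embR x) := by
  refine Prod.ext ?_ (Prod.ext ?_ ?_)
  · ext i j; fin_cases i <;> fin_cases j <;> simp [embR, mapT, map_ofNat]
  · ext i; fin_cases i <;> simp [embR, mapT]
  · ext i; fin_cases i <;> simp [embR, mapT]

theorem coordR_map (y : Matrix (Fin 3) (Fin 3) R × (Fin 3 → R) × (Fin 3 → R)) :
    coordR (mapT f y) = f ∘ coordR y := by
  ext a; rcases a with i | i <;> fin_cases i <;> simp [coordR, mapT]

theorem coefT_map (k : ℕ) (i j : Fin 3) (y : Matrix (Fin 3) (Fin 3) R × (Fin 3 → R) × (Fin 3 → R)) :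
    coefT k i j (mapT f y) = mapT f (coefT k i j y) := by
  have hE : (Matrix.single i j (1 : R)).map f = Matrix.single i j (1 : S) := by
    ext a b; simp [Matrix.single_apply, apply_ite f]
  have hEt : ((Matrix.single i j (1 : R))ᵀ).map f = (Matrix.single i j (1 : S))ᵀ := by
    rw [Matrix.transpose_map, hE]
  match k with
  | 0 => rfl
  | 1 =>
    refine Prod.ext ?_ (Prod.ext ?_ ?_) <;> simp only [coefT, mapT]
    · rw [Matrix.map_sub f (map_sub f), Matrix.map_mul, Matrix.map_mul, hE]
    · funext a; rw [Function.comp_apply, RingHom.map_mulVec, hE]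
    · funext a; rw [Function.comp_apply, Pi.neg_apply, Pi.neg_apply, map_neg, RingHom.map_mulVec, hEt]
  | 2 =>
    refine Prod.ext ?_ (Prod.ext ?_ ?_) <;> simp only [coefT, mapT]
    · rw [Matrix.map_neg f (map_neg f), Matrix.map_mul, Matrix.map_mul, hE]
    · funext a; simp
    · funext a; simp
  | k + 3 => refine Prod.ext ?_ (Prod.ext ?_ ?_) <;> ext <;> simp [coefT, mapT]

end Ring

/-- From coordinates to triples. -/
def emb : Adj F →ₗ[F] Trip F where
  toFun := embR
  map_add' x y := by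
    refine Prod.ext ?_ (Prod.ext ?_ ?_)
    · ext i j; fin_cases i <;> fin_cases j <;> simp [embR] <;> ring
    · ext i; fin_cases i <;> simp [embR]
    · ext i; fin_cases i <;> simp [embR]
  map_smul' c x := by
    refine Prod.ext ?_ (Prod.ext ?_ ?_)
    · ext i j; fin_cases i <;> fin_cases j <;> simp [embR] <;> ring
    · ext i; fin_cases i <;> simp [embR]
    · ext i; fin_cases i <;> simp [embR]

/-- From triples to coordinates. -/
def coord : Trip F →ₗ[F] Adj F where
  toFun := coordR
  map_add' x y := by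
    ext a; rcases a with i | i <;> fin_cases i <;> simp [coordR] <;> ring
  map_smul' c x := by
    ext a; rcases a with i | i <;> fin_cases i <;> simp [coordR] <;> ring

theorem coord_emb (x : Adj F) : coord (emb x) = x := by
  ext a; rcases a with i | i <;> fin_cases i <;> simp [coord, coordR, emb, embR]

theorem emb_coord {y : Trip F} (h : y.1.trace = 0) : emb (coord y) = y := by
  rw [Matrix.trace_fin_three] at h
  refine Prod.ext ?_ (Prod.ext ?_ ?_)
  · ext i j
    fin_cases i <;> fin_cases j <;> simp [coord, coordR, emb, embR] <;> linear_combination -h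
  · ext i; fin_cases i <;> simp [coord, coordR, emb, embR]
  · ext i; fin_cases i <;> simp [coord, coordR, emb, embR]

theorem trace_emb (x : Adj F) : (emb x).1.trace = 0 := by
  simp [Matrix.trace_fin_three, emb, embR]; ring

/-- The action on triples. -/
def act (g : Matrix.SpecialLinearGroup (Fin 3) F) : Trip F →ₗ[F] Trip F :=
  ((LinearMap.mulLeft F (g : Matrix (Fin 3) (Fin 3) F)) ∘ₗ
      LinearMap.mulRight F ((g : Matrix (Fin 3) (Fin 3) F)).adjugate).prodMap
    ((Matrix.mulVecLin (g : Matrix (Fin 3) (Fin 3) F)).prodMap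
      (Matrix.mulVecLin ((g : Matrix (Fin 3) (Fin 3) F)).adjugateᵀ))

theorem act_apply (g : Matrix.SpecialLinearGroup (Fin 3) F) (y : Trip F) :
    act g y = ((g : Matrix (Fin 3) (Fin 3) F) * (y.1 * (g : Matrix (Fin 3) (Fin 3) F).adjugate),
      (g : Matrix (Fin 3) (Fin 3) F) *ᵥ y.2.1, (g : Matrix (Fin 3) (Fin 3) F).adjugateᵀ *ᵥ y.2.2) := rfl

theorem trace_act (g : Matrix.SpecialLinearGroup (Fin 3) F) (y : Trip F) :
    (act g y).1.trace = y.1.trace := by
  rw [act_apply]
  simp only
  rw [Matrix.trace_mul_comm, Matrix.mul_assoc, Matrix.adjugate_mul, g.2, one_smul, Matrix.mul_one]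

theorem act_mul (g g' : Matrix.SpecialLinearGroup (Fin 3) F) (y : Trip F) :
    act (g * g') y = act g (act g' y) := by
  simp only [act_apply, Matrix.SpecialLinearGroup.coe_mul, Matrix.adjugate_mul_distrib, Matrix.transpose_mul,
    Matrix.mulVec_mulVec, Matrix.mul_assoc]

/-- The representation as linear maps. -/
def rhoLin (g : Matrix.SpecialLinearGroup (Fin 3) F) : Adj F →ₗ[F] Adj F := coord ∘ₗ act g ∘ₗ emb

/-- The representation as matrices. -/
noncomputable def rhoHom :
    Matrix.SpecialLinearGroup (Fin 3) F →* Matrix (Fin 2 ⊕ Fin 12) (Fin 2 ⊕ Fin 12) F where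
  toFun g := LinearMap.toMatrix' (rhoLin g)
  map_one' := by
    rw [← LinearMap.toMatrix'_id]
    refine congrArg _ (LinearMap.ext fun x => ?_)
    show coord (act 1 (emb x)) = x
    rw [act_apply]
    simp [coord_emb]
  map_mul' g g' := by
    rw [← LinearMap.toMatrix'_comp]
    refine congrArg _ (LinearMap.ext fun x => ?_)
    show coord (act (g * g') (emb x)) = coord (act g (emb (coord (act g' (emb x)))))
    rw [emb_coord (by rw [trace_act, trace_emb]), act_mul]

/-- The representation. -/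
noncomputable def rho : Matrix.SpecialLinearGroup (Fin 3) F →* GL chevG2.Idx F :=
  (rhoHom : Matrix.SpecialLinearGroup (Fin 3) F →* Matrix (Fin 2 ⊕ Fin 12) (Fin 2 ⊕ Fin 12) F).toHomUnits

theorem rho_apply (g : Matrix.SpecialLinearGroup (Fin 3) F) (a b : Fin 2 ⊕ Fin 12) :
    rhoHom g a b = coord (act g (emb (Pi.single b 1))) a := by
  show LinearMap.toMatrix' (rhoLin g) a b = _
  rw [LinearMap.toMatrix'_apply]
  simp only [rhoLin, LinearMap.coe_comp, Function.comp_apply]

theorem coe_rho (g : Matrix.SpecialLinearGroup (Fin 3) F) :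
    (rho g : Matrix chevG2.Idx chevG2.Idx F) = (rhoHom g : Matrix (Fin 2 ⊕ Fin 12) (Fin 2 ⊕ Fin 12) F) := rfl

/-- The root index of the position `(i, j)`. -/
def longIdx : Fin 3 → Fin 3 → Fin 12 :=
  ![![0, 6, 11], ![5, 0, 10], ![0, 1, 0]]

theorem act_transvection {i j : Fin 3} (hij : i ≠ j) (c : F) (y : Trip F) :
    act (Matrix.SpecialLinearGroup.transvection hij c) y =
      coefT 0 i j y + c • coefT 1 i j y + c ^ 2 • coefT 2 i j y := by
  have hadj : ((Matrix.SpecialLinearGroup.transvection hij c : Matrix.SpecialLinearGroup (Fin 3) F) :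
      Matrix (Fin 3) (Fin 3) F).adjugate = 1 - c • Matrix.single i j 1 := by
    have h : (Matrix.SpecialLinearGroup.transvection hij c : Matrix.SpecialLinearGroup (Fin 3) F)⁻¹ =
        Matrix.SpecialLinearGroup.transvection hij (-c) := by
      refine inv_eq_of_mul_eq_one_right (Subtype.ext ?_)
      simp [Matrix.SpecialLinearGroup.transvection_coe, Matrix.add_mul, Matrix.mul_add, hij.symm]
      rw [add_assoc, ← Matrix.single_add, add_neg_cancel, Matrix.single_zero, add_zero]
    rw [← Matrix.SpecialLinearGroup.coe_inv, h]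
    simp [Matrix.SpecialLinearGroup.transvection_coe, Matrix.smul_single, sub_eq_add_neg, ← Matrix.single_neg]
  have hT : ((Matrix.SpecialLinearGroup.transvection hij c : Matrix.SpecialLinearGroup (Fin 3) F) :
      Matrix (Fin 3) (Fin 3) F) = 1 + c • Matrix.single i j 1 := by
    simp [Matrix.SpecialLinearGroup.transvection_coe, Matrix.smul_single]
  rw [act_apply, hadj, hT]
  set M := Matrix.single i j (1 : F)
  refine Prod.ext ?_ (Prod.ext ?_ ?_)
  · simp only [coefT, Prod.fst_add, Prod.smul_fst]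
    simp only [Matrix.mul_sub, Matrix.add_mul, Matrix.mul_add, Matrix.one_mul, Matrix.mul_one,
      Matrix.smul_mul, Matrix.mul_smul, smul_sub, Matrix.mul_assoc]
    module
  · simp [coefT, Matrix.add_mulVec, Matrix.smul_mulVec]
    rfl
  · simp [coefT, Matrix.sub_mulVec, Matrix.smul_mulVec, Matrix.transpose_sub, sub_eq_add_neg]
    simp [M, Matrix.add_mulVec, Matrix.neg_mulVec, Matrix.smul_mulVec]
    rw [← Matrix.smul_mulVec, Matrix.smul_single, smul_eq_mul, mul_one]

/-- The integer coefficient tables with explicit index types. -/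
def aM (r k : ℕ) : Matrix (Fin 2 ⊕ Fin 12) (Fin 2 ⊕ Fin 12) ℤ := Chevalley.aMat chevG2 r k

theorem table : ∀ i j : Fin 3, i ≠ j → ∀ k : Fin 3, ∀ p : (Fin 2 ⊕ Fin 12) × (Fin 2 ⊕ Fin 12),
    coordR (coefT k i j (embR (Pi.single p.2 (1 : ℤ)))) p.1 =
      aM (longIdx i j) k p.1 p.2 := by
  decide +kernel

theorem table_three : ∀ i j : Fin 3, i ≠ j → ∀ p : (Fin 2 ⊕ Fin 12) × (Fin 2 ⊕ Fin 12),
    aM (longIdx i j) 3 p.1 p.2 = 0 := by
  decide +kernel

theorem rho_transvection {i j : Fin 3} (hij : i ≠ j) (c : F) :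
    (rho (Matrix.SpecialLinearGroup.transvection hij c) : Matrix chevG2.Idx chevG2.Idx F) =
      chevG2.x F (longIdx i j) c := by
  obtain ⟨C⟩ := Chevalley.exists_cert (D := chevG2) (by simp)
  rw [coe_rho, C.x_eq (show (longIdx i j : ℕ) < chevG2.nroots from (longIdx i j).isLt)]
  refine Matrix.ext fun (a : Fin 2 ⊕ Fin 12) (b : Fin 2 ⊕ Fin 12) => ?_
  rw [rho_apply, act_transvection]
  have key : ∀ k : Fin 3, coord (coefT (k : ℕ) i j (emb (Pi.single b (1 : F)))) a =
      ((aM (longIdx i j) k a b : ℤ) : F) := by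
    intro k
    have e : (Pi.single b (1 : F) : Fin 2 ⊕ Fin 12 → F) = (Int.castRingHom F) ∘ Pi.single b (1 : ℤ) := by
      ext x; simp [Pi.single_apply, apply_ite (Int.castRingHom F)]
    rw [← table i j hij k (a, b), e]
    show coordR (coefT (k : ℕ) i j (embR _)) a = _
    rw [embR_map, coefT_map, coordR_map]
    rfl
  rw [map_add, map_add, map_smul, map_smul]
  have h0 := key 0
  have h1 := key 1
  have h2 := key 2
  simp only [Fin.val_zero, Fin.val_one, Fin.val_two] at h0 h1 h2
  simp only [Pi.add_apply, Pi.smul_apply, smul_eq_mul, h0, h1, h2]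
  show _ = ∑ k ∈ Finset.range 4, ((aM (longIdx i j) k a b : ℤ) : F) * c ^ k
  simp [Finset.sum_range_succ, table_three i j hij (a, b), mul_comm]

theorem range_rho_le : (rho (F := F)).range ≤ chevG2.group F := by
  rw [MonoidHom.range_eq_map, ← Linear.closure_transvections, MonoidHom.map_closure, Subgroup.closure_le]
  rintro _ ⟨_, ⟨i, j, hij, c, rfl⟩, rfl⟩
  exact Subgroup.subset_closure ⟨longIdx i j, c, (rho_transvection hij c).trans (dif_pos (longIdx i j).isLt)⟩

end Cfsg.Agent.H14.G2Singer
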