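import Cfsg.Agent.H14.G2Singer.Diag

/-!
# A self-centralising cyclic subgroup of order `q² + q + 1` in `G₂(q)`
-/

set_option autoImplicit false

namespace Cfsg.Agent.H14.G2Singer

open Cfsg.Lie
open scoped Matrix

variable {F : Type*} [Field F]

/-- The matrix of an element with explicit index type. -/
def mat14 (u : GL chevG2.Idx F) : Matrix (Fin 2 ⊕ Fin 12) (Fin 2 ⊕ Fin 12) F := Units.val u

/-- The position of the natural module in the adjoint module. -/
def vidx : Fin 3 → Fin 12 := ![8, 7, 2]

theorem rho_block (g : Matrix.SpecialLinearGroup (Fin 3) F) (i j : Fin 3) :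
    rhoHom g (Sum.inr (vidx i)) (Sum.inr (vidx j)) = (g : Matrix (Fin 3) (Fin 3) F) i j := by
  rw [rho_apply, act_apply]
  fin_cases i <;> fin_cases j <;>
    simp [vidx, coord, coordR, emb, embR, Matrix.mulVec, dotProduct, Fin.sum_univ_three]

theorem rho_injective : Function.Injective (rho (F := F)) := by
  intro g g' h
  refine Subtype.ext (Matrix.ext fun i j => ?_)
  rw [← rho_block g i j, ← rho_block g' i j]
  exact congrArg (fun u : GL chevG2.Idx F =>
    mat14 u (Sum.inr (vidx i)) (Sum.inr (vidx j))) h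

theorem map_rho {E : Type*} [Field E] (f : F →+* E) (g : Matrix.SpecialLinearGroup (Fin 3) F) :
    Matrix.GeneralLinearGroup.map f (rho g) = rho (Matrix.SpecialLinearGroup.map f g) := by
  obtain ⟨C⟩ := Chevalley.exists_cert (D := chevG2) (by simp)
  have : ∀ {K : Type _} [Field K] {i j : Fin 3} (hij : i ≠ j) (c : K),
      rho (Matrix.SpecialLinearGroup.transvection hij c) = C.xU K (longIdx i j) c :=
    fun hij c => Units.ext ((rho_transvection hij c).trans (C.coe_xU _ _ _).symm)
  induction g using Linear.transvection_induction with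
  | one => simp
  | htr i j hij c =>
    rw [this hij c, C.map_xU]
    refine Units.ext ((C.coe_xU _ _ _).trans ((rho_transvection hij (f c)).symm.trans ?_))
    congr 2
    ext a b
    simp [Matrix.SpecialLinearGroup.transvection_coe, Matrix.single_apply, Matrix.one_apply, apply_ite f]
  | hmul a b ha hb => rw [map_mul, map_mul, ha, hb, map_mul, map_mul]

/-- The exponent of the character value at a root. -/
def ex (q : ℤ) (r : Fin 12) : ℤ := q * ca r + (1 - q) * cb r

theorem ex_three : ∀ p : Fin 12 × Fin 12, (ex 3 p.1 - ex 3 p.2) % 13 = 0 → p.1 = p.2 := by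
  decide +kernel

theorem ex_three_zero : ∀ r : Fin 12, ex 3 r % 13 ≠ 0 := by
  decide +kernel

theorem ex_bound {q : ℤ} (hq : 3 ≤ q) (r : Fin 12) :
    ex q r ≠ 0 ∧ -(2 * q + 1) ≤ ex q r ∧ ex q r ≤ 2 * q + 1 := by
  fin_cases r <;> simp [ex, ca, cb] <;> omega

theorem ex_inj {q : ℤ} (hq : 3 ≤ q) {r s : Fin 12} (h : (q ^ 2 + q + 1) ∣ ex q r - ex q s) : r = s := by
  rcases eq_or_lt_of_le hq with rfl | hq4
  · exact ex_three (r, s) (Int.emod_eq_zero_of_dvd h)
  have hb := ex_bound hq r
  have hb' := ex_bound hq s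
  have hlt : |ex q r - ex q s| < q ^ 2 + q + 1 := by
    rw [abs_lt]
    constructor <;> nlinarith
  have h0 := sub_eq_zero.1 (Int.eq_zero_of_abs_lt_dvd h hlt)
  fin_cases r <;> fin_cases s <;> simp [ex, ca, cb] at h0 ⊢ <;> omega

theorem ex_ne {q : ℤ} (hq : 3 ≤ q) (r : Fin 12) : ¬ (q ^ 2 + q + 1) ∣ ex q r := fun h => by
  have hb := ex_bound hq r
  refine hb.1 (Int.eq_zero_of_abs_lt_dvd h ?_)
  rw [abs_lt]
  constructor <;> nlinarith

variable [Fintype F] {q : ℕ}

/-- The statement. -/
theorem exists_selfCentralizing (hF : Fintype.card F = q) (hq : 3 ≤ q) :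
    ∃ H : Subgroup ↥(chevG2.group F), IsCyclic ↥H ∧ Nat.card ↥H = q ^ 2 + q + 1 ∧
      Subgroup.centralizer (H : Set ↥(chevG2.group F)) = H := by
  classical
  obtain ⟨p, hpF⟩ := CharP.exists F
  have : Fact p.Prime := ⟨CharP.char_is_prime F p⟩
  let K := FiniteField.Extension F p 3
  have : Fintype K := Fintype.ofFinite K
  have hK : Fintype.card K = q ^ 3 := by
    rw [← Nat.card_eq_fintype_card, FiniteField.natCard_extension, Nat.card_eq_fintype_card, hF]
  have h3 : Module.finrank F K = 3 := FiniteField.finrank_extension F p 3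
  let b : Module.Basis (Fin 3) F K := Module.finBasisOfFinrankEq F K h3
  let f : F →+* K := algebraMap F K
  let σ : K →ₐ[F] K := FiniteField.frobeniusAlgHom F K
  have hσ : ∀ x, σ x = x ^ q := fun x => by rw [← hF]; rfl
  let σk : Fin 3 → (K →ₐ[F] K) := fun k => σ ^ (k : ℕ)
  have hσk : ∀ k x, σk k x = x ^ q ^ (k : ℕ) := by
    intro k x
    fin_cases k <;> simp [σk, pow_two, hσ, ← pow_mul, AlgHom.mul_apply]
  let M : K →ₐ[F] Matrix (Fin 3) (Fin 3) F := Algebra.leftMulMatrix b
  have hcol : ∀ x j, ∑ i, f (M x i j) * b i = x * b j := by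
    intro x j
    have := b.sum_repr (x * b j)
    simpa [M, Algebra.leftMulMatrix_eq_repr_mul, f, Algebra.smul_def] using this
  let V : Matrix (Fin 3) (Fin 3) K := Matrix.of fun k i => σk k (b i)
  have hVM : ∀ x, V * (M x).map f = Matrix.diagonal (fun k => σk k x) * V := by
    intro x
    ext k j
    rw [Matrix.diagonal_mul, Matrix.mul_apply]
    have := congrArg (σk k) (hcol x j)
    simp only [map_sum, map_mul, f, AlgHom.commutes] at this
    simp only [V, Matrix.of_apply, Matrix.map_apply, f]
    rw [← this]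
    exact Finset.sum_congr rfl fun i _ => mul_comm _ _
  -- a generator of the norm one elements
  obtain ⟨γ, hγ⟩ := IsCyclic.exists_generator (α := Kˣ)
  have hoγ : orderOf γ = q ^ 3 - 1 := by
    rw [orderOf_eq_card_of_forall_mem_zpowers hγ, Nat.card_units, Nat.card_eq_fintype_card, hK]
  have hV : V.det ≠ 0 := by
    intro h0
    obtain ⟨c, hc, hc0⟩ := Matrix.exists_vecMul_eq_zero_iff.2 h0
    have hd : Function.Injective (fun k : Fin 3 => ((σk k : K →* K))) := by
      intro k l hkl
      have h := DFunLike.congr_fun hkl (γ : K)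
      simp only [MonoidHom.coe_coe, hσk] at h
      have h' : γ ^ q ^ (k : ℕ) = γ ^ q ^ (l : ℕ) := Units.ext (by simpa using h)
      have hlt : ∀ m : Fin 3, q ^ (m : ℕ) < orderOf γ := fun m => by
        rw [hoγ]
        calc q ^ (m : ℕ) ≤ q ^ 2 := Nat.pow_le_pow_right (by omega) (by omega)
          _ < q ^ 3 - 1 := by
            have : q ^ 2 * 2 ≤ q ^ 2 * q := Nat.mul_le_mul_left _ (by omega)
            have h4 : 2 ≤ q ^ 2 := by nlinarith
            rw [pow_succ q 2]
            omega
      exact Fin.ext (Nat.pow_right_injective (by omega) (pow_injOn_Iio_orderOf (hlt k) (hlt l) h'))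
    have hli := (linearIndependent_monoidHom K K).comp _ hd
    refine hc (funext fun k => ?_)
    refine Fintype.linearIndependent_iff.1 hli c ?_ k
    funext x
    have hb := congrArg (fun v : Fin 3 → K => ∑ i, f (b.repr x i) * v i) hc0
    simp only [Pi.zero_apply, mul_zero, Finset.sum_const_zero] at hb
    rw [Pi.zero_apply, ← hb]
    simp only [Finset.sum_apply, Pi.smul_apply, Function.comp_apply, MonoidHom.coe_coe, smul_eq_mul,
      Matrix.vecMul, dotProduct, Finset.mul_sum]
    rw [Finset.sum_comm]
    refine Finset.sum_congr rfl fun k _ => ?_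
    conv_lhs => rw [← b.sum_repr x, map_sum, Finset.mul_sum]
    refine Finset.sum_congr rfl fun i _ => ?_
    rw [Algebra.smul_def, map_mul, AlgHom.commutes]
    simp only [V, Matrix.of_apply, f]
    ring
  set N := q ^ 2 + q + 1 with hN
  have hNdvd : q ^ 3 - 1 = (q - 1) * N := by
    zify [Nat.one_le_pow 3 q (by omega), show 1 ≤ q by omega]
    simp only [hN]; push_cast; ring
  set x0 : Kˣ := γ ^ (q - 1) with hx0
  have hox : orderOf x0 = N := by
    rw [hx0, orderOf_pow' _ (by omega), hoγ, hNdvd, Nat.gcd_mul_right_left, Nat.mul_div_cancel_left _ (by omega)]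
  have hxN : ∀ x ∈ Subgroup.zpowers x0, (x : K) ^ N = 1 := by
    intro x hx
    have : orderOf x ∣ N := hox ▸ orderOf_dvd_of_mem_zpowers hx
    rw [← Units.val_pow_eq_pow_val, orderOf_dvd_iff_pow_eq_one.1 this, Units.val_one]
  have hprod : ∀ x : K, ∏ k : Fin 3, σk k x = x ^ N := by
    intro x
    simp only [Fin.prod_univ_three, hσk, hN, ← pow_add]
    congr 1
    simp
    ring
  have hdetM : ∀ x : K, f (M x).det = x ^ N := by
    intro x
    have h := congrArg Matrix.det (hVM x)
    rw [Matrix.det_mul, Matrix.det_mul, Matrix.det_diagonal, hprod, mul_comm (x ^ N)] at h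
    rw [RingHom.map_det]
    exact mul_left_cancel₀ hV h
  let T : Subgroup.zpowers x0 →* Matrix.SpecialLinearGroup (Fin 3) F :=
    MonoidHom.mk' (fun x => ⟨M ((x : Kˣ) : K), f.injective (by rw [hdetM, hxN _ x.2, map_one])⟩)
      (fun x y => Subtype.ext (show M ((x : Kˣ) * (y : Kˣ) : Kˣ) = _ by rw [Units.val_mul, map_mul]; rfl))
  have hTinj : Function.Injective T := fun x y h => Subtype.ext (Units.ext
    (Algebra.leftMulMatrix_injective b (congrArg Subtype.val h)))
  let Φ : Subgroup.zpowers x0 →* ↥(chevG2.group F) :=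
    (rho.comp T).codRestrict _ fun x => range_rho_le ⟨_, rfl⟩
  have hΦ : Function.Injective Φ := fun x y h => hTinj (rho_injective (congrArg Subtype.val h))
  refine ⟨Φ.range, isCyclic_of_surjective Φ.rangeRestrict Φ.rangeRestrict_surjective, ?_, ?_⟩
  · rw [← Nat.card_congr (MonoidHom.ofInjective hΦ).toEquiv, Nat.card_zpowers, hox]
  refine le_antisymm (fun y hy => ?_) ?_
  · set xg : Subgroup.zpowers x0 := ⟨x0, Subgroup.mem_zpowers _⟩
    have hcomm := Subgroup.mem_centralizer_iff.1 hy (Φ xg) ⟨xg, rfl⟩
    have hcomm' : rho (T xg) * (y : GL chevG2.Idx F) = (y : GL chevG2.Idx F) * rho (T xg) :=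
      congrArg Subtype.val hcomm
    -- the eigenvector matrix
    let g0 : Matrix.SpecialLinearGroup (Fin 3) K :=
      ⟨Matrix.diagonal ![V.det⁻¹, 1, 1] * V, by
        rw [Matrix.det_mul, Matrix.det_diagonal]
        simp [Fin.prod_univ_three]
        exact inv_mul_cancel₀ hV⟩
    let A : Kˣ := x0 ^ q
    let B : Kˣ := x0 * (x0 ^ q)⁻¹
    have hd : ∀ k, ((dSL A B : Matrix.SpecialLinearGroup (Fin 3) K) : Matrix (Fin 3) (Fin 3) K) k k =
        σk k (x0 : K) := by
      intro k
      have h2 : ((A * A * B)⁻¹ : Kˣ) = x0 ^ q ^ 2 := by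
        refine inv_eq_of_mul_eq_one_right ?_
        rw [show A * A * B = x0 ^ (q + 1) by simp [A, B, pow_add, mul_comm, mul_left_comm],
          ← pow_add, ← orderOf_dvd_iff_pow_eq_one, hox, hN]
        exact dvd_of_eq (by ring)
      rw [hσk]
      fin_cases k
      · simp [dSL, A, B]
        rw [mul_left_comm, mul_inv_cancel₀ (pow_ne_zero _ x0.ne_zero), mul_one]
      · simp [dSL, A]
      · simp [dSL, h2]
    have hconj : g0 * Matrix.SpecialLinearGroup.map f (T xg) = dSL A B * g0 := by
      apply Subtype.ext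
      show Matrix.diagonal _ * V * (M (x0 : K)).map f = _ * (Matrix.diagonal _ * V)
      rw [Matrix.mul_assoc, hVM]
      rw [show ((dSL A B : Matrix.SpecialLinearGroup (Fin 3) K) : Matrix (Fin 3) (Fin 3) K) =
        Matrix.diagonal (fun k => σk k (x0 : K)) from ?_]
      · rw [← Matrix.mul_assoc, ← Matrix.mul_assoc, Matrix.diagonal_mul_diagonal, Matrix.diagonal_mul_diagonal]
        congr 2
        funext k
        exact mul_comm _ _
      · ext k l
        rcases eq_or_ne k l with rfl | h
        · rw [hd, Matrix.diagonal_apply_eq]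
        · rw [Matrix.diagonal_apply_ne _ h]
          exact Matrix.diagonal_apply_ne _ h
    obtain ⟨C⟩ := Chevalley.exists_cert (D := chevG2) (by simp)
    set yK := Matrix.GeneralLinearGroup.map f (y : GL chevG2.Idx F) with hyK
    have hcommK : rho (Matrix.SpecialLinearGroup.map f (T xg)) * yK =
        yK * rho (Matrix.SpecialLinearGroup.map f (T xg)) := by
      rw [← map_rho f, hyK, ← map_mul, hcomm', map_mul]
    set z := rho g0 * yK * (rho g0)⁻¹ with hzdef
    have hz : z ∈ chevG2.group K :=
      mul_mem (mul_mem (range_rho_le ⟨_, rfl⟩) (C.map_mem_group f y.2)) (inv_mem (range_rho_le ⟨_, rfl⟩))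
    have hcz : Commute (rho (dSL A B)) z := by
      have e : rho (dSL A B) = rho g0 * rho (Matrix.SpecialLinearGroup.map f (T xg)) * (rho g0)⁻¹ := by
        rw [← map_mul, hconj, map_mul, mul_inv_cancel_right]
      show rho (dSL A B) * z = z * rho (dSL A B)
      rw [e, hzdef]
      calc _ = rho g0 * (rho (Matrix.SpecialLinearGroup.map f (T xg)) * yK) * (rho g0)⁻¹ := by group
        _ = _ := by rw [hcommK]; group
    have hexp : ∀ r : Fin 12, chi A B r = x0 ^ ex q r := by
      intro r
      rw [chi_fin]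
      simp only [A, B, ← zpow_natCast, mul_zpow, inv_zpow', ← zpow_mul]
      rw [← zpow_add, ← zpow_add]
      congr 1
      simp [ex]
      ring
    obtain ⟨A', B', hz'⟩ := exists_dSL_of_commute (A := A) (B := B)
      (fun r s e => by
        refine ex_inj (q := (q : ℤ)) (by omega) ?_
        rw [hexp, hexp] at e
        have h : x0 ^ (ex q r - ex q s) = 1 := by rw [zpow_sub, e, mul_inv_cancel]
        have := orderOf_dvd_iff_zpow_eq_one.2 h
        rw [hox, hN] at this
        push_cast at this
        exact this)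
      (fun r e => by
        refine ex_ne (q := (q : ℤ)) (by omega) r ?_
        rw [hexp] at e
        have := orderOf_dvd_iff_zpow_eq_one.2 e
        rw [hox, hN] at this
        push_cast at this
        exact this) hz hcz
    set W := g0⁻¹ * dSL A' B' * g0 with hW
    have hyW : yK = rho W := by
      rw [hW, map_mul, map_mul, map_inv, ← hz', hzdef]; group
    let M' : Matrix (Fin 3) (Fin 3) F := Matrix.of fun i j =>
      mat14 (y : GL chevG2.Idx F) (Sum.inr (vidx i)) (Sum.inr (vidx j))
    have hWM : (W : Matrix (Fin 3) (Fin 3) K) = M'.map f := by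
      ext i j
      rw [← rho_block W i j]
      exact (congrArg (fun u : GL chevG2.Idx K =>
        mat14 u (Sum.inr (vidx i)) (Sum.inr (vidx j))) hyW).symm
    set d : Fin 3 → K := fun k => ((dSL A' B' : Matrix.SpecialLinearGroup (Fin 3) K) : Matrix (Fin 3) (Fin 3) K) k k
    have hrow : ∀ k j, ∑ i, V k i * f (M' i j) = d k * V k j := by
      intro k j
      have h := congrArg (fun g : Matrix.SpecialLinearGroup (Fin 3) K => (g : Matrix (Fin 3) (Fin 3) K) k j)
        (show g0 * W = dSL A' B' * g0 by rw [hW]; group)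
      simp only [Matrix.SpecialLinearGroup.coe_mul, hWM] at h
      have hD : ((dSL A' B' : Matrix.SpecialLinearGroup (Fin 3) K) : Matrix (Fin 3) (Fin 3) K) = Matrix.diagonal d := by
        ext a c
        rcases eq_or_ne a c with rfl | hac
        · rw [Matrix.diagonal_apply_eq]
        · rw [Matrix.diagonal_apply_ne _ hac]
          exact Matrix.diagonal_apply_ne _ hac
      rw [hD, Matrix.diagonal_mul] at h
      simp only [g0] at h
      rw [Matrix.mul_assoc, Matrix.diagonal_mul, Matrix.diagonal_mul, Matrix.mul_apply] at h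
      have hne : (![V.det⁻¹, 1, 1] : Fin 3 → K) k ≠ 0 := by fin_cases k <;> simp [hV]
      refine mul_left_cancel₀ hne ?_
      simp only [Matrix.map_apply] at h
      rw [h]
      ring
    set x := d 0 with hx
    have hb0 : ∀ j, ∑ i, f (M' i j) * b i = x * b j := by
      intro j
      have := hrow 0 j
      simp only [V, Matrix.of_apply, hσk] at this
      simpa [hx, mul_comm] using this
    have hM : M' = M x := by
      ext i j
      have h := hb0 j
      rw [← hcol x j] at h
      have h2 := congrArg (fun v => b.repr v i) h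
      simpa [f, ← Algebra.smul_def, Finsupp.single_apply] using h2
    have hxNone : x ^ N = 1 := by
      rw [← hdetM, ← hM, RingHom.map_det]
      show (M'.map f).det = 1
      rw [← hWM]; exact W.2
    have hxne : x ≠ 0 := fun h => by rw [h, zero_pow (by omega)] at hxNone; exact zero_ne_one hxNone
    have hmem : Units.mk0 x hxne ∈ Subgroup.zpowers x0 := by
      obtain ⟨k, hk⟩ := Subgroup.mem_zpowers_iff.1 (hγ (Units.mk0 x hxne))
      have h1 : γ ^ (k * N) = 1 := by
        rw [zpow_mul, hk, zpow_natCast]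
        exact Units.ext (by simpa using hxNone)
      have h2 := orderOf_dvd_iff_zpow_eq_one.2 h1
      rw [hoγ, hNdvd, Nat.cast_mul] at h2
      obtain ⟨m, hm⟩ := (mul_dvd_mul_iff_right (show (N : ℤ) ≠ 0 by omega)).1 h2
      refine ⟨m, ?_⟩
      show x0 ^ m = _
      rw [← hk, hm, hx0, zpow_mul, zpow_natCast]
    refine ⟨⟨_, hmem⟩, Subtype.ext ?_⟩
    have hfinj : Function.Injective (Matrix.GeneralLinearGroup.map (n := chevG2.Idx) f) := by
      intro u v e
      refine Units.ext (Matrix.ext fun i j => f.injective ?_)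
      exact congrArg (fun g : GL chevG2.Idx K => (g : Matrix chevG2.Idx chevG2.Idx K) i j) e
    refine hfinj ?_
    show Matrix.GeneralLinearGroup.map f (rho (T ⟨_, hmem⟩)) = yK
    rw [map_rho, hyW]
    congr 1
    apply Subtype.ext
    rw [hWM]
    show (M x).map f = _
    rw [hM]
  · rintro _ ⟨a, rfl⟩
    rw [Subgroup.mem_centralizer_iff]
    rintro _ ⟨c, rfl⟩
    rw [← map_mul, ← map_mul, mul_comm]

end Cfsg.Agent.H14.G2Singer
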